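import Mathlib
import Cfsg.Agent.INV.GW.Cor
import Cfsg.Agent.INV.GW.DFAut
import Cfsg.Agent.INV.GW.DFactsA7
import Cfsg.Agent.CHAR.Burnside
import Cfsg.Agent.TECH.SylIn
import Cfsg.Agent.PLOC.NPC

/-! Groups with dihedral Sylow 2-subgroups and a generalized dihedral involution centralizer are
`PSL₂(q)` or `PGL₂(q)`. -/

set_option autoImplicit false
set_option linter.unusedSectionVars false

namespace CL.DG

open Subgroup Cfsg CL.GW CL.GW.DF CL.PGL2 CL.AutPSL CL.Dih CL.Z2 CL.PComp CL.Comp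
open scoped MatrixGroups commutatorElement

/-- `X` is `PSL₂(q)` or `PGL₂(q)` with `q > 3`. -/
def LP (X : Type*) [Group X] : Prop :=
  ∃ (F : Type) (_ : Field F) (_ : Fintype F), 3 < Fintype.card F ∧
    (Nonempty (X ≃* Matrix.ProjectiveSpecialLinearGroup (Fin 2) F) ∨
      Nonempty (X ≃* Matrix.ProjGenLinGroup (Fin 2) F))

theorem LP.of_equiv {X Y : Type*} [Group X] [Group Y] (h : LP X) (e : Y ≃* X) : LP Y := by
  obtain ⟨F, _, _, h1, ⟨⟨f⟩⟩ | ⟨⟨f⟩⟩⟩ := h
  · exact ⟨F, inferInstance, inferInstance, h1, Or.inl ⟨e.trans f⟩⟩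
  · exact ⟨F, inferInstance, inferInstance, h1, Or.inr ⟨e.trans f⟩⟩

variable {X : Type*} [Group X] [Finite X]

theorem isPGroup_zpowers {x : X} {k : ℕ} (h : x ^ 2 ^ k = 1) : IsPGroup 2 (zpowers x) := by
  obtain ⟨m, -, hm⟩ := (Nat.dvd_prime_pow Nat.prime_two).1 (orderOf_dvd_of_pow_eq_one h)
  exact IsPGroup.of_card (n := m) (by rw [Nat.card_zpowers, hm])

theorem isPGroup_zpowers_inv {x : X} (h : orderOf x = 2) : IsPGroup 2 (zpowers x) :=
  IsPGroup.of_card (n := 1) (by rw [Nat.card_zpowers, h, pow_one])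

theorem exists_coord_four (h : D2 X) {L : Subgroup X} [L.Normal] (hL : ⁅L, L⁆ = L) (hne : L ≠ ⊥) :
    ∃ (P : Sylow 2 X) (n : ℕ) (c : Coord (P : Subgroup X) n), c.r (hh n) ∈ L ∧ ∃ i, c.s i ∈ L := by
  obtain ⟨t, htL, v, hvL, ht, hv, htv, hne'⟩ := h.exists_four hL hne
  have h1 : IsPGroup 2 ↥(zpowers t ⊔ zpowers v) :=
    (isPGroup_zpowers_inv ht).to_sup_of_normal_right' (isPGroup_zpowers_inv hv) (by
      rw [zpowers_le]
      exact centralizer_le_normalizer _ fun y hy => by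
        obtain ⟨k, rfl⟩ := hy
        exact (htv.symm.zpow_left k).eq)
  obtain ⟨P, hP⟩ := h1.exists_le_sylow
  have htP : t ∈ (P : Subgroup X) := hP (mem_sup_left (mem_zpowers t))
  have hvP : v ∈ (P : Subgroup X) := hP (mem_sup_right (mem_zpowers v))
  obtain ⟨n, ⟨c⟩⟩ := h.exists_coord_of_pair P.isPGroup' htP hvP ht hv hne'.symm
  refine ⟨P, n, c, ?_, ?_⟩
  · rcases c.eq_of_commute htP hvP (c.r_mem _) ht hv ((c.orderOf_r_eq_two_iff _).2 rfl) htv
      (c.r_h_comm htP) (c.r_h_comm hvP) hne'.symm with e | e | e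
    · exact e ▸ htL
    · exact e ▸ hvL
    · exact e ▸ mul_mem htL hvL
  · rcases (c.mem_iff t).1 htP with ⟨i, rfl⟩ | ⟨i, rfl⟩
    · rcases (c.mem_iff v).1 hvP with ⟨k, rfl⟩ | ⟨k, rfl⟩
      · rw [(c.orderOf_r_eq_two_iff _).1 ht, (c.orderOf_r_eq_two_iff _).1 hv] at hne'
        exact absurd rfl hne'
      · exact ⟨k, hvL⟩
    · exact ⟨i, htL⟩

theorem exists_conj_mem (h : D2 X) {L K : Subgroup X} [L.Normal] (hL : ⁅L, L⁆ = L) (hne : L ≠ ⊥)
    (hLK : L ≤ K) (hK : ∀ s : X, orderOf s = 2 → s ∈ K) {j : X} (hj : orderOf j = 2) (x : X) :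
    ∃ k ∈ K, k * j * k⁻¹ = x * j * x⁻¹ := by
  have hj' : orderOf (x * j * x⁻¹) = 2 := ((MulAut.conj x).orderOf_eq j).trans hj
  by_cases hjL : j ∈ L
  · obtain ⟨g, hg, e⟩ := h.exists_conj_of_perfect hL hj hj' hjL (Normal.conj_mem inferInstance j hjL x)
    exact ⟨g, hLK hg, e⟩
  obtain ⟨P, n, c, h1, i, h2⟩ := exists_coord_four h hL hne
  have hPK : (P : Subgroup X) ≤ K := fun y hy => by
    rcases (c.mem_iff y).1 hy with ⟨a, rfl⟩ | ⟨a, rfl⟩
    · have := mul_mem (hK _ (c.orderOf_s a)) (hK _ (c.orderOf_s 0))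
      rwa [c.s_mul_s, sub_zero] at this
    · exact hK _ (c.orderOf_s a)
  have key : ∀ w : X, orderOf w = 2 → w ∉ L → ∃ k ∈ K, k * w * k⁻¹ = c.s (i + 1) := by
    intro w hw hwL
    obtain ⟨k, hk, h3⟩ := (MSS.sylIn_sylow P hPK).exists_conj_le (isPGroup_zpowers_inv hw)
      (zpowers_le.2 (hK w hw))
    have h4 : k * w * k⁻¹ ∈ (P : Subgroup X) := h3 ⟨w, mem_zpowers w, rfl⟩
    have h5 : k * w * k⁻¹ ∉ L := fun e => hwL (by
      simpa [mul_assoc] using Normal.conj_mem inferInstance _ e k⁻¹)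
    have h6 : orderOf (k * w * k⁻¹) = 2 := ((MulAut.conj k).orderOf_eq w).trans hw
    rcases (c.mem_iff _).1 h4 with ⟨a, ha⟩ | ⟨a, ha⟩
    · rw [ha] at h5 h6
      rw [(c.orderOf_r_eq_two_iff _).1 h6] at h5
      exact absurd h1 h5
    · have h7 : hh n * i ≠ hh n * a := fun e => by
        obtain ⟨t, ht⟩ := c.exists_conj_s e
        exact h5 (ha ▸ ht ▸ Normal.conj_mem inferInstance _ h2 _)
      have h8 : hh n * a = hh n * (i + 1) := by
        have := c.two_h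
        rcases c.par i with e | e <;> rcases c.par a with e' | e'
        · exact absurd (e.trans e'.symm) h7
        · rw [mul_add, e, e', zero_add, mul_one]
        · rw [mul_add, e, e', mul_one, ← two_mul, this]
        · exact absurd (e.trans e'.symm) h7
      obtain ⟨t, ht⟩ := c.exists_conj_s h8
      refine ⟨c.r t * k, mul_mem (hPK (c.r_mem t)) hk, ?_⟩
      rw [← ht, ← ha]
      group
  obtain ⟨k, hk, e⟩ := key j hj hjL
  obtain ⟨k', hk', e'⟩ := key _ hj' fun e => hjL (by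
    simpa [mul_assoc] using Normal.conj_mem inferInstance _ e x⁻¹)
  refine ⟨k'⁻¹ * k, mul_mem (inv_mem hk') hk, ?_⟩
  rw [← e] at e'
  rw [show x * j * x⁻¹ = k'⁻¹ * (k' * (x * j * x⁻¹) * k'⁻¹) * k' by group, e']
  group

theorem hom_eq_one (h : D2 X) {L : Subgroup X} [L.Normal] (hL : ⁅L, L⁆ = L) (hne : L ≠ ⊥)
    {B : Type*} [Group B] (hB : ∀ a b : B, a * b = b * a) (ψ : X →* B) (h1 : L ≤ ψ.ker)
    (h2 : ∀ s : X, orderOf s = 2 → ψ s = 1) {j : X} (hj : orderOf j = 2)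
    (hi : ∀ a : X, Commute a j → Odd (orderOf a) → ∃ t, t * a * t⁻¹ = a⁻¹) (x : X) : ψ x = 1 := by
  obtain ⟨k, hk, e⟩ := exists_conj_mem h hL hne h1 h2 hj x
  have h3 : Commute (k⁻¹ * x) j := by
    rw [Commute, SemiconjBy, show k⁻¹ * x * j = k⁻¹ * (x * j * x⁻¹) * x by group, ← e]
    group
  obtain ⟨a, b, -, hb, ⟨m, hm⟩, hbo, hab⟩ := exists_p_part_mul_p'_part (p := 2) (k⁻¹ * x)
  have h4 : ψ a = 1 := by
    obtain ⟨P, n, c, -⟩ := exists_coord_four h hL hne
    obtain ⟨g, -, h5⟩ := (MSS.sylIn_top P).exists_conj_le (isPGroup_zpowers hm) le_top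
    have h6 : g * a * g⁻¹ ∈ (P : Subgroup X) := h5 ⟨a, mem_zpowers a, rfl⟩
    have h7 : ψ (g * a * g⁻¹) = 1 := by
      rcases (c.mem_iff _).1 h6 with ⟨i, hi⟩ | ⟨i, hi⟩
      · rw [hi, ← sub_zero i, ← c.s_mul_s, map_mul, h2 _ (c.orderOf_s _), h2 _ (c.orderOf_s _),
          mul_one]
      · rw [hi, h2 _ (c.orderOf_s _)]
    rwa [map_mul, map_mul, hB (ψ g), map_inv, mul_inv_cancel_right] at h7
  have h5 : ψ b = 1 := by
    obtain ⟨i, rfl⟩ := hb
    obtain ⟨t, ht⟩ := hi _ (h3.zpow_left i) (Nat.coprime_two_right.1 hbo)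
    have h6 := congrArg ψ ht
    rw [map_mul, map_mul, hB (ψ t), map_inv, mul_inv_cancel_right, map_inv, eq_inv_iff_mul_eq_one,
      ← sq] at h6
    exact orderOf_eq_one_iff.1 (Nat.Coprime.eq_one_of_dvd (hbo.coprime_dvd_left (orderOf_map_dvd ψ _))
      (orderOf_dvd_of_pow_eq_one h6))
  have h6 := congrArg ψ hab
  rwa [map_mul, map_mul, h4, h5, mul_one, map_inv, show ψ k = 1 from hk, inv_one, one_mul] at h6

theorem not_a7 (e : X ≃* alternatingGroup (Fin 7)) {j : X} (hj : orderOf j = 2)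
    (hii : ∀ a b : X, Commute a j → Commute b j → Odd (orderOf a) → b ^ 2 ≠ 1 → Commute a b) :
    False := by
  obtain ⟨c, hc⟩ := isConj_iff.1 (A7.isConj_t₀ (e j).2 (by
    rw [orderOf_coe, MulEquiv.orderOf_eq, hj]))
  let φ : X →* Equiv.Perm (Fin 7) :=
    (MulAut.conj c).toMonoidHom.comp ((alternatingGroup (Fin 7)).subtype.comp e.toMonoidHom)
  have hφ : Function.Injective φ :=
    (MulAut.conj c).injective.comp (Subtype.val_injective.comp e.injective)
  have hs : ∀ σ ∈ alternatingGroup (Fin 7), ∃ x, φ x = σ := fun σ hσ =>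
    ⟨e.symm ⟨c⁻¹ * σ * c⁻¹⁻¹, Normal.conj_mem inferInstance _ hσ _⟩, by simp [φ, mul_assoc]⟩
  have hj' : φ j = A7.t₀ := hc
  obtain ⟨a, ha⟩ := hs (Equiv.swap 4 5 * Equiv.swap 5 6) (by
    rw [Equiv.Perm.mem_alternatingGroup]; decide)
  obtain ⟨b, hb⟩ := hs (Equiv.swap 0 2 * Equiv.swap 2 1 * Equiv.swap 1 3 * Equiv.swap 4 5) (by
    rw [Equiv.Perm.mem_alternatingGroup]; decide)
  have h1 := (hii a b (hφ (by rw [map_mul, map_mul, ha, hj', A7.t₀]; decide))
    (hφ (by rw [map_mul, map_mul, hb, hj', A7.t₀]; decide))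
    (Odd.of_dvd_nat (show Odd 3 by decide) (orderOf_dvd_of_pow_eq_one (hφ (by
      rw [map_pow, ha, map_one]; decide))))
    (fun h => by
      have := congrArg φ h
      rw [map_pow, hb, map_one] at this
      revert this
      decide)).map φ
  rw [ha, hb] at h1
  revert h1
  unfold Commute SemiconjBy
  decide

section aut

variable {F : Type} [Field F] [Fintype F]

theorem sg_iP (g : PGL(2, F)) : sg (iP F g) = 1 := by
  obtain ⟨x, rfl⟩ := exists_mk g
  exact right_eq_of_gam_eq ((exists_gam _).choose_spec.trans ((iP_mk x).trans (diag_apply x)))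

theorem lp_of_sg (hF : 3 < Fintype.card F) (φ : X →* MulAut PSL(2, F)) (hφ : Function.Injective φ)
    (h2 : LL F ≤ φ.range) (h3 : ∀ x, sg (φ x) = 1) : LP X := by
  refine ⟨F, inferInstance, inferInstance, hF, ?_⟩
  have h4 : ∀ g, φ g ∈ (iP F).range := fun g => exists_iP_of_sg (h3 g)
  let θ : X →* PGL(2, F) := (MonoidHom.ofInjective (iP_inj (F := F))).symm.toMonoidHom.comp
    (φ.codRestrict _ h4)
  have h5 : ∀ g, iP F (θ g) = φ g := fun g => congrArg Subtype.val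
    ((MonoidHom.ofInjective (iP_inj (F := F))).apply_symm_apply _)
  have hθ : Function.Injective θ := fun a b e => hφ (by rw [← h5, ← h5, e])
  have h6 : pslIn F ≤ θ.range := fun s hs => by
    obtain ⟨n, hn⟩ := h2 (iP_mem.mpr hs)
    exact ⟨n, iP_inj (by rw [h5, hn])⟩
  by_cases h7 : θ.range = ⊤
  · exact Or.inr ⟨(MonoidHom.ofInjective hθ).trans ((MulEquiv.subgroupCongr h7).trans topEquiv)⟩
  · refine Or.inl ⟨(MonoidHom.ofInjective hθ).trans
      ((MulEquiv.subgroupCongr ?_).trans (pslInEquiv F).symm)⟩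
    have h8 := relIndex_mul_index h6
    have h9 : (pslIn F).index ≤ 2 := index_pslIn (F := F) ▸ Nat.gcd_le_left _ two_pos
    have h10 : θ.range.index ≠ 1 := fun a => h7 (index_eq_one.mp a)
    have h11 := θ.range.index_ne_zero_of_finite
    have h12 := (pslIn F).index_ne_zero_of_finite
    refine le_antisymm (relIndex_eq_one.mp ?_) h6
    have h13 : (pslIn F).relIndex θ.range * 2 ≤ 2 :=
      (Nat.mul_le_mul_left _ (by omega)).trans (h8.le.trans h9)
    have h14 : (pslIn F).relIndex θ.range ≠ 0 := fun a => h12 (by rw [← h8, a, zero_mul])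
    omega

end aut

theorem lp_of_l2 (h : D2 X) {L : Subgroup X} [L.Normal] (hL : ⁅L, L⁆ = L) (hne : L ≠ ⊥)
    (hC : centralizer (L : Set X) = ⊥) {F : Type} [Field F] [Fintype F] (hF : 3 < Fintype.card F)
    (hodd : Odd (Fintype.card F)) (e : L ≃* PSL(2, F)) {j : X} (hj : orderOf j = 2)
    (hi : ∀ a : X, Commute a j → Odd (orderOf a) → ∃ t, t * a * t⁻¹ = a⁻¹) : LP X := by
  let φ : X →* MulAut PSL(2, F) := (MulAut.congr e).toMonoidHom.comp MulAut.conjNormal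
  have hφ : Function.Injective φ := by
    rw [injective_iff_map_eq_one]
    intro g hg
    refine mem_bot.mp (hC ▸ fun n hn => ?_)
    have h1 : MulAut.conjNormal (H := L) g = 1 := (MulAut.congr e).injective (hg.trans (map_one _).symm)
    exact (mul_inv_eq_iff_eq_mul.mp (congrArg (fun a : MulAut L => (a ⟨n, hn⟩ : X)) h1)).symm
  have h1 : ∀ n : L, φ n = MulAut.conj (e n) := fun n => by
    ext x
    obtain ⟨x, rfl⟩ := e.surjective x
    simp only [φ, MulAut.conj_apply, ← map_inv, ← map_mul]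
    simp only [MulEquiv.toMonoidHom_eq_coe, MonoidHom.comp_apply, MonoidHom.coe_coe,
      MulAut.congr_apply, MulEquiv.trans_apply, MulEquiv.symm_apply_apply]
    congr 1
  have h2 : ∀ a ∈ LL F, ∃ n ∈ L, φ n = a := fun a ha => by
    rw [LL_eq] at ha
    obtain ⟨s, rfl⟩ := ha
    exact ⟨e.symm s, (e.symm s).2, by rw [h1, e.apply_symm_apply]⟩
  have h3 : ∀ n ∈ L, sg (φ n) = 1 := fun n hn => by
    have : φ n ∈ LL F := by
      rw [LL_eq]
      exact ⟨_, (h1 ⟨n, hn⟩).symm⟩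
    obtain ⟨g, -, hg⟩ := this
    rw [← hg, sg_iP]
  refine lp_of_sg hF φ hφ (fun a ha => ?_)
    (hom_eq_one h hL hne FieldAut.ringAut_mul_comm (sg.comp φ) h3 (fun s hs => ?_) hj hi)
  · obtain ⟨n, -, hn⟩ := h2 a ha
    exact ⟨n, hn⟩
  · by_contra h4
    obtain ⟨u, hu, v, hv, hu2, hv2, huv, hne', hsu, hsv⟩ := exists_four
      (by rwa [Nat.card_eq_fintype_card]) ((orderOf_injective φ hφ s).trans hs) h4
    obtain ⟨u, huL, rfl⟩ := h2 u hu
    obtain ⟨v, hvL, rfl⟩ := h2 v hv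
    rw [orderOf_injective φ hφ] at hu2 hv2
    have c : ∀ a b : X, Commute (φ a) (φ b) → Commute a b := fun a b e =>
      hφ (by rw [map_mul, map_mul, e.eq])
    rcases h.eq_of_commute hu2 hv2 hs (c _ _ huv) (c _ _ hsu).symm (c _ _ hsv).symm
      (fun e => hne' (e ▸ rfl)) with e | e | e
    · exact h4 (h3 _ (e ▸ huL))
    · exact h4 (h3 _ (e ▸ hvL))
    · exact h4 (h3 _ (e ▸ mul_mem huL hvL))

theorem lp_of_d2 (h : D2 X) (hO : oddCore X = ⊥) (hns : ¬ Group.IsSolvable X) {j : X}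
    (hj : orderOf j = 2) (hi : ∀ a : X, Commute a j → Odd (orderOf a) → ∃ t, t * a * t⁻¹ = a⁻¹)
    (hii : ∀ a b : X, Commute a j → Commute b j → Odd (orderOf a) → b ^ 2 ≠ 1 → Commute a b) :
    LP X := by
  have h2 : ¬ IsPGroup 2 X := fun h2 => hns (by
    have := h2.isNilpotent
    infer_instance)
  by_cases hE : layerOf (⊤ : Subgroup X) = ⊥
  · obtain ⟨L, -, -, h3, ⟨e⟩⟩ := h.exists_alt_four hO hE h2
    refine absurd (Char.isSolvable_of_card_dvd_pow_mul_pow (a := 3) (b := 1) Nat.prime_two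
      Nat.prime_three ?_) hns
    rw [← L.card_mul_index, Nat.card_congr e.toEquiv, nat_card_alternatingGroup]
    simpa [Nat.factorial] using mul_dvd_mul_left 12 h3
  obtain ⟨hC, ⟨k, e, hc⟩ | ⟨h1, hc⟩⟩ := h.layer_structure hO hE
  · obtain ⟨f⟩ := quotCenterEquiv hC
    obtain ⟨q, h1, h3, F, _, _, rfl, ⟨g⟩⟩ := hc.l2
    have : (layerOf (⊤ : Subgroup X)).Normal :=
      normalizer_eq_top_iff.1 (top_le_iff.1 (le_normalizer_layerOf ⊤))
    refine lp_of_l2 h hc.perfect hE hC h3 ?_ (f.trans g) hj hi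
    rw [Nat.odd_iff]
    rcases hc.sign with h4 | h4 <;> omega
  · rw [h1] at hC
    obtain ⟨f⟩ := quotCenterEquiv hC
    obtain ⟨g⟩ := hc.a7
    exact (not_a7 (topEquiv.symm.trans (f.trans g)) hj hii).elim

end CL.DG
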