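import Mathlib
import Cfsg.Agent.TECH.DG.Dih
import Cfsg.Agent.S2202
import Cfsg.Agent.S4593

/-! The characteristic two case: a normal subgroup of 2-power index has abelian involution
centralizers. -/

set_option autoImplicit false
set_option linter.unusedSectionVars false

namespace CL.DG

open Subgroup Cfsg CL.GW CL.PComp
open scoped MatrixGroups commutatorElement

/-- `G / N` is `PSL₂(q)` or `PGL₂(q)`, `q > 3`, for some `N` of order not divisible by four. -/
def Goal (G : Type*) [Group G] : Prop :=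
  ∃ (N : Subgroup G) (_ : N.Normal), ¬ 4 ∣ Nat.card N ∧ LP (G ⧸ N)

variable {G : Type*} [Group G] [Finite G]

theorem Goal.of_quotient {O : Subgroup G} [O.Normal] (hO : Odd (Nat.card O)) (h : Goal (G ⧸ O)) :
    Goal G := by
  obtain ⟨N, _, h1, h2⟩ := h
  let f : G →* (G ⧸ O) ⧸ N := (QuotientGroup.mk' N).comp (QuotientGroup.mk' O)
  have hf : Function.Surjective f :=
    (QuotientGroup.mk'_surjective N).comp (QuotientGroup.mk'_surjective O)
  refine ⟨f.ker, inferInstance, fun h3 => h1 ?_,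
    h2.of_equiv (QuotientGroup.quotientKerEquivOfSurjective f hf)⟩
  have a1 := f.ker.card_mul_index
  rw [index_ker, MonoidHom.range_eq_top.2 hf, card_top, card_eq_card_quotient_mul_card_subgroup O,
    card_eq_card_quotient_mul_card_subgroup N, mul_assoc, mul_comm] at a1
  rw [Nat.eq_of_mul_eq_mul_left Nat.card_pos a1] at h3
  exact (show Nat.Coprime (2 ^ 2) _ from (Nat.coprime_two_left.2 hO).pow_left 2).dvd_of_dvd_mul_right h3

theorem solvable_of_isPGroup {X : Type*} [Group X] [Finite X] (h : IsPGroup 2 X) :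
    Group.IsSolvable X :=
  have := h.isNilpotent
  inferInstance

theorem solvable_of_odd {X : Type*} [Group X] [Finite X] (h : Odd (Nat.card X)) :
    Group.IsSolvable X :=
  have := isSolvable_of_odd (H := (⊤ : Subgroup X)) (by rwa [card_top])
  Group.isSolvable_of_surjective (f := (⊤ : Subgroup X).subtype) fun x => ⟨⟨x, trivial⟩, rfl⟩

theorem solvable_of_normal (N : Subgroup G) [N.Normal] (h1 : Group.IsSolvable N)
    (h2 : Group.IsSolvable (G ⧸ N)) : Group.IsSolvable G :=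
  Group.isSolvable_of_ker_le_range N.subtype (QuotientGroup.mk' N) (by simp)

/-- the perfect factor of a group with abelian involution centralizers. -/
theorem exists_sl2 (hns : ¬ Group.IsSolvable G) {K : Subgroup G} [K.Normal]
    (hK : IsPGroup 2 (G ⧸ K))
    (h : ∀ t ∈ K, ∀ a ∈ K, ∀ b ∈ K, orderOf t = 2 → Commute a t → Commute b t → Commute a b) :
    ∃ (F : Type) (_ : Field F) (_ : Fintype F) (_ : CharP F 2) (f : SL(2, F) →* G),
      3 < Fintype.card F ∧ Function.Injective f ∧ f.range = ⁅K, K⁆ ∧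
        ∀ k ∈ K, ∃ a, ∀ x, k * f x * k⁻¹ = f a * f x * (f a)⁻¹ := by
  have hK' : ¬ Group.IsSolvable K := fun e => hns (solvable_of_normal K e (solvable_of_isPGroup hK))
  rcases Cfsg.Agent.S2202.result (G := K)
    (Nat.not_odd_iff_even.1 fun e => hK' (solvable_of_odd e))
    (fun t ht => ⟨⟨fun a b => Subtype.ext (Subtype.ext (h t t.2 a a.1.2 b b.1.2
      (by rwa [orderOf_coe]) (congrArg Subtype.val (mem_centralizer_singleton_iff.1 a.2))
      (congrArg Subtype.val (mem_centralizer_singleton_iff.1 b.2))).eq)⟩⟩) with h1 | h1 | h1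
  · exact absurd (isSolvable_of_hasNPC (hasNPC_of_isCyclic _ (h1 default))) hK'
  · obtain ⟨P⟩ : Nonempty (Sylow 2 K) := inferInstance
    have := h1 P
    refine absurd (solvable_of_normal (P : Subgroup K) (solvable_of_isPGroup P.isPGroup')
      (solvable_of_odd ?_)) hK'
    exact Nat.odd_iff.2 (Nat.two_dvd_ne_zero.1 P.not_dvd_index)
  obtain ⟨F, _, _, B, _, _, hF, hB, ⟨e⟩⟩ := h1
  have h3 : 3 < Fintype.card F := by
    by_contra h4
    have h5 := Fintype.one_lt_card (α := F)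
    have h6 := CL.SL.card_SL_two (F := F)
    have : Group.IsSolvable SL(2, F) := by
      refine Char.isSolvable_of_card_dvd_pow_mul_pow (a := 3) (b := 1) Nat.prime_two
        Nat.prime_three ?_
      rw [h6, Nat.card_eq_fintype_card]
      rcases (by omega : Fintype.card F = 2 ∨ Fintype.card F = 3) with h7 | h7 <;> rw [h7] <;> decide
    exact hK' (Group.isSolvable_of_isSolvable_injective (f := e.toMonoidHom) e.injective)
  let f : SL(2, F) →* G := K.subtype.comp (e.symm.toMonoidHom.comp (MonoidHom.inl _ _))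
  have hf : ∀ x, f x = (e.symm (x, 1) : G) := fun _ => rfl
  refine ⟨F, inferInstance, inferInstance, hF, f, h3, fun a b hab => ?_, le_antisymm ?_ ?_,
    fun k hk => ⟨(e ⟨k, hk⟩).1, fun x => ?_⟩⟩
  · exact congrArg Prod.fst (e.symm.injective (Subtype.ext hab))
  · rw [MonoidHom.range_eq_map, ← CL.OrthE.commutator_SL_two (F := F)
      (by rw [Nat.card_eq_fintype_card]; omega), _root_.commutator_def, map_commutator]
    refine commutator_mono ?_ ?_ <;> rintro _ ⟨x, -, rfl⟩ <;> exact (e.symm (x, 1)).2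
  · rw [commutator_le]
    intro a ha b hb
    refine ⟨⁅(e ⟨a, ha⟩).1, (e ⟨b, hb⟩).1⁆, ?_⟩
    rw [hf, show ((⁅(e ⟨a, ha⟩).1, (e ⟨b, hb⟩).1⁆, 1) : SL(2, F) × B) = ⁅e ⟨a, ha⟩, e ⟨b, hb⟩⁆ from
      Prod.ext rfl (commutatorElement_eq_one_iff_mul_comm.2 (mul_comm _ _)).symm,
      ← map_commutatorElement, e.symm_apply_apply]
    rfl
  · rw [← map_inv, ← map_mul, ← map_mul, hf, hf,
      show (((e ⟨k, hk⟩).1 * x * ((e ⟨k, hk⟩).1)⁻¹, 1) : SL(2, F) × B) =
        e ⟨k, hk⟩ * (x, 1) * (e ⟨k, hk⟩)⁻¹ from Prod.ext rfl (by simp), map_mul, map_mul, map_inv,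
      e.symm_apply_apply]
    rfl

theorem sq_eq_one_of_sl2 {F : Type} [Field F] [Fintype F] [CharP F 2] {x : SL(2, F)} {k : ℕ}
    (h : x ^ 2 ^ k = 1) : x ^ 2 = 1 := by
  have h1 : orderOf x ∈ Set.range (orderOf : SL(2, F) → ℕ) := ⟨x, rfl⟩
  rw [CL.Spec.spec_SL2_char_two] at h1
  have h2 : Even (Fintype.card F) := by
    obtain ⟨n, -, hn⟩ := FiniteField.card F 2
    rw [hn]
    exact (Nat.even_pow' n.ne_zero).2 even_two
  have h3 : ∀ m, Odd m → orderOf x ∣ m → x ^ 2 = 1 := fun m hm e => by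
    rw [orderOf_eq_one_iff.1 (Nat.eq_one_of_dvd_coprimes
      ((Nat.coprime_two_right.2 hm).pow_right k) e (orderOf_dvd_of_pow_eq_one h)), one_pow]
  rcases h1 with h1 | h1 | h1
  · exact orderOf_dvd_iff_pow_eq_one.1 h1
  · exact h3 _ (Nat.Even.sub_odd Fintype.card_pos h2 odd_one) h1
  · exact h3 _ h2.add_one h1

theorem goal_of_two (hns : ¬ Group.IsSolvable G) {H A K : Subgroup G} [K.Normal]
    (hK : IsPGroup 2 (G ⧸ K)) (hH : Odd H.index) (hA : A.relIndex H ≤ 2)
    (hab : ∀ a ∈ A, ∀ b ∈ A, Commute a b) (hKA : K ⊓ H ≤ A)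
    (hC : ∀ j ∈ A, orderOf j = 2 → centralizer ({j} : Set G) = H) : Goal G := by
  obtain ⟨S₀, hS₀⟩ := MSS.exists_sylIn 2 H
  have hS₁ : MSS.SylIn 2 S₀ ⊤ := MSS.sylIn_of_not_dvd_relIndex hS₀.pgroup le_top (by
    rw [relIndex_top_right, ← relIndex_mul_index hS₀.le]
    exact fun e => (Nat.prime_two.dvd_mul.1 e).elim hS₀.not_dvd_relIndex
      (Nat.two_dvd_ne_zero.2 (Nat.odd_iff.1 hH)))
  obtain ⟨S, rfl⟩ := MSS.sylIn_top_iff.1 hS₁
  obtain ⟨F, _, _, _, f, h3, hf, hfK, hin⟩ := exists_sl2 hns hK fun t ht a ha b hb ht2 hat hbt => by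
    obtain ⟨g, -, hg⟩ := hS₁.exists_conj_le (isPGroup_zpowers_inv ht2) le_top
    have h1 : g * t * g⁻¹ ∈ A :=
      hKA ⟨Normal.conj_mem inferInstance _ ht g, hS₀.le (hg ⟨t, mem_zpowers t, rfl⟩)⟩
    have h2 := hC _ h1 (((MulAut.conj g).orderOf_eq t).trans ht2)
    have h4 : ∀ x ∈ K, Commute x t → g * x * g⁻¹ ∈ A := fun x hx hxt =>
      hKA ⟨Normal.conj_mem inferInstance _ hx g, h2 ▸ mem_centralizer_singleton_iff.2
        (hxt.map (MulAut.conj g)).eq⟩
    exact (MulAut.conj g).injective (by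
      rw [map_mul, map_mul]; exact (hab _ (h4 a ha hat) _ (h4 b hb hbt)).eq)
  have hn : f.range.Normal := hfK ▸ inferInstance
  have hLK : f.range ≤ K := hfK ▸ commutator_le_left K K
  have hperf := CL.OrthE.commutator_SL_two (F := F) (by rw [Nat.card_eq_fintype_card]; omega)
  have hZ := CL.Spec.center_SL2_char_two (F := F)
  have hsimp : IsSimpleGroup SL(2, F) := by
    have := CL.SL.psl_isSimpleGroup_of_perfect hperf
    exact (CL.Spec.psl2EquivCharTwo (F := F)).symm.isSimpleGroup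
  have hnab : ¬ ∀ a b : SL(2, F), Commute a b := fun e => by
    have : center SL(2, F) = ⊤ := eq_top_iff.2 fun a _ => mem_center_iff.2 fun b => (e b a).eq
    exact bot_ne_top (hZ.symm.trans this)
  have hev : ¬ Odd (Nat.card SL(2, F)) := fun e =>
    hnab (IsSimpleGroup.comm_iff_isSolvable.2 (solvable_of_odd e))
  let eL := MonoidHom.ofInjective hf
  let φ : G →* MulAut SL(2, F) := (MulAut.congr eL.symm).toMonoidHom.comp MulAut.conjNormal
  have hφ : ∀ g x, f (φ g x) = g * f x * g⁻¹ := fun g x =>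
    congrArg Subtype.val (eL.apply_symm_apply (MulAut.conjNormal g (eL x)))
  obtain ⟨P, hP⟩ : ∃ P : Sylow 2 SL(2, F), ∀ x, x ∈ (P : Subgroup SL(2, F)) ↔ f x ∈ (S : Subgroup G) := by
    obtain ⟨T, hT⟩ := exists_sylow_eq_subgroupOf_normal S f.range
    refine ⟨T.mapSurjective (f := eL.symm.toMonoidHom) eL.symm.surjective, fun x => ?_⟩
    change x ∈ (T : Subgroup f.range).map eL.symm.toMonoidHom ↔ _
    rw [hT, mem_map_equiv, mem_subgroupOf]
    rfl
  have hPA : ∀ x ∈ (P : Subgroup SL(2, F)), f x ∈ A := fun x hx =>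
    hKA ⟨hLK ⟨x, rfl⟩, hS₀.le ((hP x).1 hx)⟩
  have hPc : ∀ x ∈ (P : Subgroup SL(2, F)), ∀ h ∈ H, h * f x = f x * h := fun x hx h hh => by
    by_cases h1 : x = 1
    · simp [h1]
    obtain ⟨k, hk⟩ := P.isPGroup' ⟨x, hx⟩
    have h2 : orderOf x = 2 := orderOf_eq_prime (sq_eq_one_of_sl2 (congrArg Subtype.val hk)) h1
    rw [← hC _ (hPA x hx) ((orderOf_injective f hf x).trans h2)] at hh
    exact mem_centralizer_singleton_iff.1 hh
  have hall : ∀ g : G, ∃ a, ∀ x, g * f x * g⁻¹ = f a * f x * (f a)⁻¹ := fun g => by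
    have h1 : g ∈ ((K ⊔ (S : Subgroup G) : Subgroup G) : Set G) := by
      rw [sup_sylow_eq_top_of_isPGroup_quotient K hK S]; trivial
    rw [normal_mul] at h1
    obtain ⟨k, hk, s, hs, rfl⟩ := h1
    obtain ⟨a, ha⟩ := hin k hk
    obtain ⟨b, hb⟩ := Cfsg.Agent.S4593.result hZ
      ((hsimp.eq_bot_or_eq_top_of_normal _ inferInstance).resolve_right fun e => hev (by
        have := pPrimeCore_coprime (G := SL(2, F)) 2
        rwa [e, card_top, Nat.coprime_two_right] at this)) P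
      ⟨⟨fun x y => Subtype.ext (hf (by
        rw [coe_mul, coe_mul, map_mul, map_mul]; exact (hab _ (hPA _ x.2) _ (hPA _ y.2)).eq))⟩⟩
      (φ s) (by
        obtain ⟨m, hm⟩ := S.isPGroup' ⟨s, hs⟩
        obtain ⟨i, -, hi⟩ := (Nat.dvd_prime_pow Nat.prime_two).1 (orderOf_dvd_of_pow_eq_one
          (show φ s ^ 2 ^ m = 1 by rw [← map_pow, show s ^ 2 ^ m = 1 from congrArg Subtype.val hm,
            map_one]))
        exact ⟨i, hi⟩)
      (fun x hx => hf (by rw [hφ, hPc x hx s (hS₀.le hs), mul_inv_cancel_right]))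
    refine ⟨a * b, fun x => ?_⟩
    have h2 : k * s * f x * (k * s)⁻¹ = k * (s * f x * s⁻¹) * k⁻¹ := by group
    rw [h2, ← hφ s, hb, ha]
    simp only [map_mul, map_inv]
    group
  let N := centralizer (f.range : Set G)
  refine ⟨N, inferInstance, fun h4 => ?_, F, inferInstance, inferInstance, h3, Or.inl ⟨?_⟩⟩
  · obtain ⟨u, hu, hu2⟩ : ∃ u ∈ (P : Subgroup SL(2, F)), orderOf u = 2 := by
      obtain ⟨u, hu⟩ := exists_prime_orderOf_dvd_card' (G := (P : Subgroup SL(2, F))) 2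
        (P.dvd_card_of_dvd_card (Nat.not_odd_iff_even.1 hev).two_dvd)
      exact ⟨u, u.2, by rwa [orderOf_coe]⟩
    have h5 : N ≤ H := fun c hc => by
      rw [← hC _ (hPA u hu) ((orderOf_injective f hf u).trans hu2)]
      exact mem_centralizer_singleton_iff.2 (hc _ ⟨u, rfl⟩).symm
    have h6 : A.relIndex N ≤ 2 := (relIndex_le_of_le_right h5 index_ne_zero_of_finite).trans hA
    have h7 : A.relIndex N ≠ 0 := index_ne_zero_of_finite
    have h8 := (A.subgroupOf N).card_mul_index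
    have h9 : 2 ∣ Nat.card (A.subgroupOf N) := by
      change _ * A.relIndex N = _ at h8
      rw [← h8] at h4
      rcases (by omega : A.relIndex N = 1 ∨ A.relIndex N = 2) with e | e <;> rw [e] at h4 <;> omega
    obtain ⟨c, hc⟩ := exists_prime_orderOf_dvd_card' 2 h9
    have h10 := hC (c.1 : G) c.2 (by rwa [orderOf_coe, orderOf_coe])
    have h11 : ∀ x, f x ∈ A := fun x => hKA ⟨hLK ⟨x, rfl⟩,
      h10 ▸ mem_centralizer_singleton_iff.2 (c.1.2 _ ⟨x, rfl⟩)⟩
    exact hnab fun a b => hf (by rw [map_mul, map_mul]; exact (hab _ (h11 a) _ (h11 b)).eq)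
  · refine (MulEquiv.ofBijective ((QuotientGroup.mk' N).comp f) ⟨?_, fun y => ?_⟩).symm.trans
      (CL.Spec.psl2EquivCharTwo (F := F)).symm
    · refine (injective_iff_map_eq_one _).2 fun x hx => mem_bot.1 (hZ ▸ mem_center_iff.2 fun y => hf ?_)
      rw [map_mul, map_mul]
      exact (QuotientGroup.eq_one_iff _).1 hx _ ⟨y, rfl⟩
    · obtain ⟨g, rfl⟩ := QuotientGroup.mk'_surjective N y
      obtain ⟨a, ha⟩ := hall g
      refine ⟨a, QuotientGroup.eq.2 ?_⟩
      rintro _ ⟨x, rfl⟩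
      have := ha x
      rw [mul_inv_eq_iff_eq_mul] at this
      rw [mul_assoc, this]
      group

end CL.DG
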