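import Mathlib
import Cfsg.Agent.TECH.DG.Two
import Cfsg.Agent.INV.QD
import Cfsg.Agent.INV.IndexTwo
import Cfsg.Agent.INV.ZStarAux
import Cfsg.Agent.INV.GW.Cor2
import Cfsg.Agent.PLOC.PNormal
import Cfsg.Agent.SIG.PElt
import Cfsg.Agent.SOLV.PGroupCyclicSCN
import Cfsg.Agent.S0215
import Cfsg.Agent.S3224

/-! Groups with a generalized dihedral involution centralizer. -/

set_option autoImplicit false
set_option linter.unusedSectionVars false

namespace CL.DG

open Subgroup Cfsg CL.GW CL.PComp CL.Z2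

variable {G : Type*} [Group G] [Finite G]

theorem exists_central_inv {T N : Subgroup G} (hT : IsPGroup 2 T) (hN : N ≤ T)
    (hn : ∀ x ∈ T, ∀ a ∈ N, x * a * x⁻¹ ∈ N) (h : N ≠ ⊥) :
    ∃ z ∈ N, orderOf z = 2 ∧ ∀ x ∈ T, Commute x z := by
  have : (N.subgroupOf T).Normal := ⟨fun a ha x => hn x x.2 a ha⟩
  obtain ⟨z, h1, h2, h3⟩ := PN.exists_mem_center_orderOf_eq hT (N.subgroupOf T)
    fun e => h (by rw [← map_subgroupOf_eq_of_le hN, e, Subgroup.map_bot])
  exact ⟨z, h1, by rwa [orderOf_coe], fun x hx => congrArg Subtype.val (mem_center_iff.1 h2 ⟨x, hx⟩)⟩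

theorem mul_self_of_two {x : G} (h : orderOf x = 2) : x * x = 1 := by
  rw [← sq, ← h, pow_orderOf_eq_one]

theorem ne_one_of_two {x : G} (h : orderOf x = 2) : x ≠ 1 := by
  rintro rfl
  simp at h

theorem eq_one_of_odd {x : G} {k : ℕ} (h : Odd (orderOf x)) (h2 : x ^ 2 ^ k = 1) : x = 1 :=
  orderOf_eq_one_iff.1 (Nat.eq_one_of_dvd_coprimes ((Nat.coprime_two_right.2 h).pow_right k)
    dvd_rfl (orderOf_dvd_of_pow_eq_one h2))

/-- the centralizer of `j` is generalized dihedral over `A`, and `j` is the only involution of `A`. -/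
structure DH (j : G) (A : Subgroup G) : Prop where
  ord : orderOf j = 2
  mem : j ∈ A
  ab : ∀ a ∈ A, ∀ b ∈ A, Commute a b
  inv : ∀ x, Commute x j → x ∉ A → ∀ a ∈ A, x * a * x⁻¹ = a⁻¹
  sq1 : ∀ x, Commute x j → x ∉ A → x * x = 1
  two : ∀ x y, Commute x j → Commute y j → x ∉ A → y ∉ A → x * y ∈ A
  uniq : ∀ a ∈ A, a * a = 1 → a = 1 ∨ a = j
  ex : ∃ t, Commute t j ∧ t ∉ A

variable {j : G} {A : Subgroup G}

theorem DH.quotient (h : DH j A) {O : Subgroup G} [O.Normal] (hO : Odd (Nat.card O)) :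
    DH (QuotientGroup.mk' O j) (A.map (QuotientGroup.mk' O)) := by
  have h1 : ∀ o ∈ O, Odd (orderOf o) := fun o ho => hO.of_dvd_nat (Subgroup.orderOf_dvd_natCard O ho)
  have h2 : ∀ y, Commute y (QuotientGroup.mk' O j) → ∃ x, Commute x j ∧ QuotientGroup.mk' O x = y := by
    intro y hy
    have h3 := centralizer_map_of_coprime_ker (p := 2) (QuotientGroup.mk'_surjective O)
      (by rw [QuotientGroup.ker_mk']; exact Nat.coprime_two_right.2 hO) (isPGroup_zpowers_inv h.ord)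
    have h4 : y ∈ centralizer (((zpowers j).map (QuotientGroup.mk' O) : Subgroup _) : Set (G ⧸ O)) := by
      rintro _ ⟨_, ⟨k, rfl⟩, rfl⟩
      rw [map_zpow]
      exact (hy.symm.zpow_left k).eq
    rw [h3] at h4
    obtain ⟨x, hx, rfl⟩ := h4
    exact ⟨x, (hx j (mem_zpowers j)).symm, rfl⟩
  refine ⟨orderOf_eq_prime (by rw [← map_pow, sq, mul_self_of_two h.ord, map_one]) fun e => ?_,
    ⟨j, h.mem, rfl⟩, ?_, ?_, ?_, ?_, ?_, ?_⟩
  · have := h1 j ((QuotientGroup.eq_one_iff _).1 e)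
    rw [h.ord] at this
    exact absurd this (by decide)
  · rintro _ ⟨a, ha, rfl⟩ _ ⟨b, hb, rfl⟩
    exact (h.ab a ha b hb).map _
  · rintro y hy hyA _ ⟨a, ha, rfl⟩
    obtain ⟨x, hx, rfl⟩ := h2 y hy
    rw [← map_inv, ← map_mul, ← map_mul, h.inv x hx (fun e => hyA ⟨x, e, rfl⟩) a ha, map_inv]
  · intro y hy hyA
    obtain ⟨x, hx, rfl⟩ := h2 y hy
    rw [← map_mul, h.sq1 x hx fun e => hyA ⟨x, e, rfl⟩, map_one]
  · intro y y' hy hy' hyA hyA'
    obtain ⟨x, hx, rfl⟩ := h2 y hy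
    obtain ⟨x', hx', rfl⟩ := h2 y' hy'
    exact ⟨_, h.two x x' hx hx' (fun e => hyA ⟨x, e, rfl⟩) fun e => hyA' ⟨x', e, rfl⟩, map_mul _ _ _⟩
  · rintro _ ⟨a, ha, rfl⟩ e
    obtain ⟨m, hm⟩ := hO
    have h3 : a * a ∈ O := (QuotientGroup.eq_one_iff _).1 ((map_mul _ _ _).trans e)
    have h4 : QuotientGroup.mk' O (a ^ Nat.card O) = QuotientGroup.mk' O a := by
      rw [hm, map_pow, pow_succ, pow_mul, sq, e, one_pow, one_mul]
    rw [← h4]
    rcases h.uniq _ (pow_mem ha (Nat.card O)) (by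
      rw [← (Commute.refl a).mul_pow]
      exact congrArg Subtype.val (pow_card_eq_one' (x := (⟨_, h3⟩ : O)))) with e | e
    · exact Or.inl (by rw [e, map_one])
    · exact Or.inr (by rw [e])
  · obtain ⟨t, ht, htA⟩ := h.ex
    refine ⟨_, ht.map _, ?_⟩
    rintro ⟨a, ha, e⟩
    have h3 : a⁻¹ * t ∉ A := fun e => htA ((mul_mem_cancel_left (inv_mem ha)).1 e)
    refine h3 (eq_one_of_odd (k := 1) (h1 _ (QuotientGroup.eq.1 e)) ?_ ▸ one_mem A)
    rw [pow_one, sq]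
    exact h.sq1 _ ((h.ab a ha j h.mem).inv_left.mul_left ht) h3

theorem DH.d2_of_le (h : DH j A) {T : Sylow 2 G} (hT : ∀ x ∈ (T : Subgroup G), Commute x j) : D2 G := by
  obtain ⟨t, ht, htA⟩ := h.ex
  have hC : ∀ x, x ∈ centralizer ({j} : Set G) ↔ Commute x j := fun _ => mem_centralizer_singleton_iff
  obtain ⟨P, hP, htP⟩ := MSS.exists_sylIn_ge (isPGroup_zpowers (k := 1) (x := t) (by
    rw [pow_one, sq, h.sq1 t ht htA])) (zpowers_le.2 ((hC t).2 ht))
  obtain ⟨S, rfl⟩ := MSS.sylIn_top_iff.1 ((MSS.sylIn_top T).of_card_le hP.pgroup le_top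
    (hP.card_le T.isPGroup' fun x hx => (hC x).2 (hT x hx)))
  have hc : IsCyclic ↥((S : Subgroup G) ⊓ A) := by
    by_contra hc
    have : IsMulCommutative ↥((S : Subgroup G) ⊓ A) :=
      ⟨⟨fun a b => Subtype.ext (h.ab _ (mem_inf.1 a.2).2 _ (mem_inf.1 b.2).2).eq⟩⟩
    obtain ⟨E, hE, hE', h4⟩ :=
      PCyc.exists_elemAb_le_of_not_isCyclic (S.isPGroup'.to_le inf_le_left) hc
    obtain ⟨x, hx, y, hy, h5, h6, h7⟩ := PCyc.exists_pair_of_elemAb hE' (by rw [h4]; norm_num)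
    rw [(h.uniq x (mem_inf.1 (hE hx)).2 (mul_self_of_two h5)).resolve_left (ne_one_of_two h5),
      (h.uniq y (mem_inf.1 (hE hy)).2 (mul_self_of_two h6)).resolve_left (ne_one_of_two h6)] at h7
    exact h7 (mem_zpowers j)
  obtain ⟨z, hz⟩ := (Subgroup.isCyclic_iff_exists_zpowers_eq_top _).1 hc
  have hz' : z ∈ (S : Subgroup G) ⊓ A := hz ▸ mem_zpowers z
  have htS := htP (mem_zpowers t)
  refine d2_of_sylow S (corD_of_gen S.isPGroup' (mem_inf.1 hz').1 htS (h.sq1 t ht htA)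
    (h.inv t ht htA z (mem_inf.1 hz').2) fun x hx => ?_)
  rw [hz]
  by_cases hxA : x ∈ A
  · exact Or.inl (mem_inf.2 ⟨hx, hxA⟩)
  · exact Or.inr (mem_inf.2 ⟨mul_mem htS hx, h.two t x ht ((hC x).1 (hP.le hx)) htA hxA⟩)

theorem DH.goal_of_d2 (h : DH j A) (hd : D2 G) (hO : oddCore G = ⊥) (hns : ¬ Group.IsSolvable G) :
    Goal G := by
  refine ⟨⊥, inferInstance, by simp, (lp_of_d2 hd hO hns h.ord (fun a ha _ => ?_)
    fun a b ha hb hao hb2 => ?_).of_equiv QuotientGroup.quotientBot⟩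
  · by_cases haA : a ∈ A
    · obtain ⟨t, ht, htA⟩ := h.ex
      exact ⟨t, h.inv t ht htA a haA⟩
    · exact ⟨1, by simpa [eq_inv_iff_mul_eq_one] using h.sq1 a ha haA⟩
  · by_cases haA : a ∈ A
    · exact h.ab a haA b (by_contra fun e => hb2 (by rw [sq, h.sq1 b hb e]))
    · rw [eq_one_of_odd (k := 1) hao (by rw [pow_one, sq, h.sq1 a ha haA])]
      exact Commute.one_left b

theorem DH.goal_of_qd (h : DH j A) (hO : oddCore G = ⊥) (hns : ¬ Group.IsSolvable G)
    (hn : ∀ T : Sylow 2 G, ¬ ∀ x ∈ (T : Subgroup G), Commute x j) {T : Sylow 2 G}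
    (hj : j ∈ (T : Subgroup G)) {n : ℕ} (c : QD.Coord (T : Subgroup G) n) : Goal G := by
  have hz2 : orderOf (c.r (hh n)) = 2 := (c.orderOf_r_eq_two_iff _).2 rfl
  have hzT := (c.central_iff (c.r_mem (hh n))).2 (Or.inr rfl)
  have hzj : c.r (hh n) ≠ j := fun e => hn T fun x hx => e ▸ hzT x hx
  obtain ⟨i, rfl⟩ : ∃ i, j = c.s i := ((c.mem_iff j).1 hj).resolve_left fun ⟨i, e⟩ =>
    hzj (by rw [e, (c.orderOf_r_eq_two_iff i).1 (e ▸ h.ord)])
  obtain ⟨N, hN, hNo, hzN⟩ := Cfsg.Agent.S0215.result T _ hz2 (c.r_mem _) fun g hg => by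
    have h1 := ((MulAut.conj g).orderOf_eq _).trans hz2
    change orderOf (g * _ * g⁻¹) = 2 at h1
    rcases (c.mem_iff _).1 hg with ⟨k, e⟩ | ⟨k, e⟩
    · rw [e, (c.orderOf_r_eq_two_iff k).1 (e ▸ h1)]
    · obtain ⟨t, ht⟩ := c.exists_conj_s (((c.orderOf_s_eq_two_iff k).1 (e ▸ h1)).trans
        ((c.orderOf_s_eq_two_iff i).1 h.ord).symm)
      refine absurd (fun x hx => ?_) (hn ((c.r t * g) • T))
      obtain ⟨y, hy, rfl⟩ := hx
      rw [← ht, ← e, show c.r t * (g * c.r (hh n) * g⁻¹) * (c.r t)⁻¹ =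
        MulAut.conj (c.r t * g) (c.r (hh n)) by simp [mul_assoc]]
      exact (show Commute y _ from hzT y hy).map (MulAut.conj (c.r t * g))
  have hzc : c.r (hh n) ∈ center G := mem_center_iff.2 fun g => by
    have h1 := (le_pPrimeCore (Nat.coprime_two_right.2 hNo)).trans hO.le (hzN g)
    rw [mem_bot, mul_inv_eq_one, mul_inv_eq_iff_eq_mul] at h1
    exact h1.symm
  set z := c.r (hh n) with hz
  have hZ : zpowers z ≤ center G := zpowers_le.2 hzc
  have hZn : (zpowers z).Normal := ⟨fun a ha g => by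
    rwa [mem_center_iff.1 (hZ ha) g, mul_inv_cancel_right]⟩
  have hZm : ∀ w ∈ zpowers z, w = 1 ∨ w = z := by
    rintro _ ⟨k, rfl⟩
    rcases Int.even_or_odd' k with ⟨m, rfl | rfl⟩
    · left; simp only [zpow_mul, zpow_two, mul_self_of_two hz2, one_zpow]
    · right; simp only [zpow_add, zpow_mul, zpow_two, mul_self_of_two hz2, one_zpow, one_mul, zpow_one]
  have hzA : z ∉ A := fun e =>
    (h.uniq z e (mul_self_of_two hz2)).elim (ne_one_of_two hz2) hzj
  have hsq : ∀ x, Commute x (c.s i) → x * x = 1 := fun x hx => by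
    by_cases hxA : x ∈ A
    · have h1 := h.inv z (mem_center_iff.1 hzc _).symm hzA x hxA
      rwa [← mem_center_iff.1 hzc x, mul_inv_cancel_right, eq_inv_iff_mul_eq_one] at h1
    · exact h.sq1 x hx hxA
  let π := QuotientGroup.mk' (zpowers z)
  have hπ : π z = 1 := (QuotientGroup.eq_one_iff _).2 (mem_zpowers z)
  have key : ∀ a, Commute a (π (c.s i)) → Odd (orderOf a) → a = 1 := fun a ha hao => by
    obtain ⟨a, rfl⟩ := QuotientGroup.mk'_surjective (zpowers z) a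
    have h1 : a * c.s i * a⁻¹ * (c.s i)⁻¹ ∈ zpowers z := (QuotientGroup.eq_one_iff _).1 (by
      change π _ = 1
      rw [map_mul, map_mul, map_mul, map_inv, map_inv, (show Commute (π a) _ from ha).eq]
      group)
    have h2 := mem_center_iff.1 (hZ h1)
    have h3 : a * c.s i * a⁻¹ * (c.s i)⁻¹ * (a * c.s i * a⁻¹ * (c.s i)⁻¹) = 1 := by
      rcases hZm _ h1 with e | e <;> rw [e]
      · exact one_mul _
      · exact mul_self_of_two hz2
    generalize hw : a * c.s i * a⁻¹ * (c.s i)⁻¹ = w at h2 h3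
    have h4 : a * c.s i = w * c.s i * a := by rw [← hw]; group
    have h5 : Commute (a * a) (c.s i) := by
      rw [Commute, SemiconjBy, mul_assoc, h4, ← mul_assoc, ← mul_assoc, h2 a, mul_assoc w, h4,
        ← mul_assoc, ← mul_assoc, h3, one_mul, mul_assoc]
    refine eq_one_of_odd (k := 2) hao ?_
    rw [← map_pow, show a ^ 2 ^ 2 = a * a * (a * a) by norm_num [pow_succ, mul_assoc], hsq _ h5, map_one]
  refine ⟨zpowers z, hZn, by rw [Nat.card_zpowers, hz2]; decide, lp_of_d2 (j := π (c.s i)) ?_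
    (BS.pPrimeCore_quotient_central 2 hO _ hZ (isPGroup_zpowers_inv hz2))
    (fun e => hns (solvable_of_normal _ (solvable_of_isPGroup (isPGroup_zpowers_inv hz2)) e))
    (orderOf_eq_prime (by rw [← map_pow, sq, mul_self_of_two h.ord, map_one]) fun e => ?_)
    (fun a ha hao => ⟨1, by rw [key a ha hao]; simp⟩)
    fun a b ha _ hao _ => key a ha hao ▸ Commute.one_left b⟩
  · refine d2_of_sylow (T.mapSurjective (QuotientGroup.mk'_surjective _))
      (corD_of_gen (Sylow.isPGroup' _) (z := π (c.r 1)) (v := π (c.s 0)) ⟨_, c.r_mem 1, rfl⟩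
        ⟨_, c.s_mem 0, rfl⟩ (by rw [← map_mul, c.s_sq, mul_zero, c.r_zero, map_one]) ?_ ?_)
    · rw [← map_inv, ← map_mul, ← map_mul, c.s_conj_r, mul_one, sub_eq_add_neg, ← c.r_mul_r, map_mul,
        hπ, one_mul, ← c.r_inv, map_inv]
    · have h1 : ∀ k, π (c.r k) ∈ zpowers (π (c.r 1)) := fun k => by
        rw [← MonoidHom.map_zpowers]
        exact ⟨_, (c.mem_zpowers_iff _).2 ⟨k, rfl⟩, rfl⟩
      rintro _ ⟨x, hx, rfl⟩
      rcases (c.mem_iff x).1 hx with ⟨k, rfl⟩ | ⟨k, rfl⟩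
      · exact Or.inl (h1 k)
      · right
        change π _ * π _ ∈ _
        rw [← map_mul, c.s_mul_s]
        exact h1 _
  · exact (hZm _ ((QuotientGroup.eq_one_iff _).1 e)).elim (c.s_ne_one i) hzj.symm

theorem DH.goal_of_core (h : DH j A) (hO : oddCore G = ⊥) (hns : ¬ Group.IsSolvable G) : Goal G := by
  by_cases hn : ∃ T : Sylow 2 G, ∀ x ∈ (T : Subgroup G), Commute x j
  · obtain ⟨T, hT⟩ := hn
    exact h.goal_of_d2 (h.d2_of_le hT) hO hns
  rw [not_exists] at hn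
  obtain ⟨T, hT⟩ := (isPGroup_zpowers_inv h.ord).exists_le_sylow
  have hj : j ∈ (T : Subgroup G) := hT (mem_zpowers j)
  obtain ⟨z, hzT, hz2, hz⟩ := exists_central_inv T.isPGroup' le_rfl
    (fun x hx a ha => mul_mem (mul_mem hx ha) (inv_mem hx))
    fun e => ne_one_of_two h.ord (mem_bot.1 (e ▸ hj))
  have hzj : z ≠ j := fun e => hn T (e ▸ hz)
  have hzA : z ∉ A := fun e => (h.uniq z e (mul_self_of_two hz2)).elim (ne_one_of_two hz2) hzj
  have h1 : ∀ a ∈ (T : Subgroup G), a ∈ A → a = 1 ∨ a = j := fun a ha haA => h.uniq a haA (by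
    have h1 := h.inv z (hz j hj).symm hzA a haA
    rwa [← (hz a ha).eq, mul_inv_cancel_right, eq_inv_iff_mul_eq_one] at h1)
  have hc : Nat.card (centralizer ({⟨j, hj⟩} : Set (T : Subgroup G))) = 4 := by
    have h2 := Four.isKleinFour_closure h.ord hz2 hzj.symm (hz j hj).eq
    rw [← h2.card_four, ← card_map_of_injective (T : Subgroup G).subtype_injective]
    congr 2
    refine le_antisymm ?_ ((closure_le _).2 ?_)
    · rintro _ ⟨x, hx, rfl⟩
      have h3 : Commute (x : G) j := congrArg Subtype.val (mem_centralizer_singleton_iff.1 hx)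
      have h4 : j ∈ closure ({j, z} : Set G) := subset_closure (by simp)
      have h5 : z ∈ closure ({j, z} : Set G) := subset_closure (by simp)
      by_cases hxA : (x : G) ∈ A
      · rcases h1 x x.2 hxA with e | e <;> rw [coe_subtype, e]
        · exact one_mem _
        · exact h4
      · rw [← mul_mem_cancel_left h5]
        rcases h1 _ (mul_mem hzT x.2) (h.two z x (hz j hj).symm h3 hzA hxA) with e | e <;>
          rw [coe_subtype, e]
        · exact one_mem _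
        · exact h4
    · rintro x (rfl | rfl)
      · exact ⟨⟨x, hj⟩, mem_centralizer_singleton_iff.2 rfl, rfl⟩
      · exact ⟨⟨x, hzT⟩, mem_centralizer_singleton_iff.2 (Subtype.ext (hz j hj).symm.eq), rfl⟩
  rcases Cfsg.Agent.S3224.result T.isPGroup' ⟨j, hj⟩ (by rw [← orderOf_coe]; exact h.ord) hc with
    ⟨m, ⟨e⟩⟩ | h2 | h2
  · exact h.goal_of_d2 (d2_of_dihedral T e) hO hns
  · obtain ⟨n, ⟨c⟩⟩ := QD.exists_coord h2
    exact h.goal_of_qd hO hns hn hj c
  · refine absurd (fun x hx => ?_) (hn T)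
    have h3 : (⟨x, hx⟩ : (T : Subgroup G)) ∈ centralizer ({⟨j, hj⟩} : Set (T : Subgroup G)) := by
      rw [eq_top_of_card_eq _ (hc.trans h2.symm)]
      trivial
    exact congrArg Subtype.val (mem_centralizer_singleton_iff.1 h3)

theorem DH.goal (h : DH j A) (hns : ¬ Group.IsSolvable G) : Goal G :=
  have hO : Odd (Nat.card (oddCore G)) := Nat.coprime_two_right.1 (pPrimeCore_coprime 2)
  .of_quotient hO ((h.quotient hO).goal_of_core (pPrimeCore_quotient 2)
    fun e => hns (solvable_of_normal _ (solvable_of_odd hO) e))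

theorem odd_index_of_sylIn {H : Subgroup G} {S : Subgroup G} (hS : MSS.SylIn 2 S ⊤) (h : S ≤ H) :
    Odd H.index := by
  have h1 := hS.not_dvd_relIndex
  rw [relIndex_top_right] at h1
  exact Nat.odd_iff.2 (Nat.two_dvd_ne_zero.1 fun e => h1 (e.trans (index_dvd_of_le h)))

theorem goal_of_elem {H : Subgroup G} (hns : ¬ Group.IsSolvable G) (hsq : ∀ x ∈ H, x * x = 1)
    (hne : H ≠ ⊥) (hC : ∀ j ∈ H, orderOf j = 2 → centralizer ({j} : Set G) = H) : Goal G := by
  have hab : ∀ a ∈ H, ∀ b ∈ H, Commute a b := fun a ha b hb => by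
    have h1 := hsq _ (mul_mem ha hb)
    rw [mul_eq_one_iff_eq_inv, mul_inv_rev, inv_eq_of_mul_eq_one_right (hsq a ha),
      inv_eq_of_mul_eq_one_right (hsq b hb)] at h1
    exact h1
  have hp : IsPGroup 2 H := fun x => ⟨1, Subtype.ext (by simpa [sq] using hsq x x.2)⟩
  obtain ⟨T, hT⟩ := hp.exists_le_sylow
  obtain ⟨j, hj, hj2, -⟩ := exists_central_inv hp le_rfl
    (fun x hx a ha => mul_mem (mul_mem hx ha) (inv_mem hx)) hne
  obtain ⟨z, hzT, hz2, hz⟩ := exists_central_inv T.isPGroup' le_rfl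
    (fun x hx a ha => mul_mem (mul_mem hx ha) (inv_mem hx)) fun e => hne (le_bot_iff.1 (e ▸ hT))
  have hzH : z ∈ H := hC j hj hj2 ▸ mem_centralizer_singleton_iff.2 (hz j (hT hj)).symm.eq
  refine goal_of_two (K := ⊤) (A := H) hns (fun x => ⟨0, (QuotientGroup.subsingleton_quotient_top).elim _ _⟩)
    (odd_index_of_sylIn (MSS.sylIn_top T) fun x hx => ?_) (by simp) hab inf_le_right hC
  exact hC z hzH hz2 ▸ mem_centralizer_singleton_iff.2 (hz x hx).eq

theorem goal {H A : Subgroup G} (hAH : A < H) (hD : ∀ x ∈ H, x ∉ A → x * x = 1)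
    (h4 : 4 ∣ Nat.card H)
    (hC : ∀ j ∈ H, orderOf j = 2 → (∀ h ∈ H, h * j = j * h) → centralizer ({j} : Set G) = H)
    (hns : ¬ Group.IsSolvable G) : Goal G := by
  have hinv : ∀ x ∈ H, x ∉ A → ∀ a ∈ A, x * a * x⁻¹ = a⁻¹ := fun x hx hxA a ha => by
    have h1 := hD _ (mul_mem hx (hAH.le ha)) fun e => hxA ((mul_mem_cancel_right ha).1 e)
    rw [inv_eq_of_mul_eq_one_right (hD x hx hxA), eq_inv_iff_mul_eq_one, mul_assoc, h1]
  obtain ⟨t, ht, htA⟩ := SetLike.exists_of_lt hAH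
  have hab : ∀ a ∈ A, ∀ b ∈ A, Commute a b := fun a ha b hb => by
    have h1 := hinv t ht htA _ (mul_mem ha hb)
    rw [← conj_mul, hinv t ht htA a ha, hinv t ht htA b hb, ← mul_inv_rev, inv_inj] at h1
    exact h1.symm
  by_cases hE : ∀ x ∈ H, x * x = 1
  · refine goal_of_elem hns hE (ne_bot_of_gt hAH) fun j hj h2 => hC j hj h2 fun x hx => ?_
    have h1 := hE _ (mul_mem hx hj)
    rwa [mul_eq_one_iff_eq_inv, mul_inv_rev, inv_eq_of_mul_eq_one_right (hE x hx),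
      inv_eq_of_mul_eq_one_right (hE j hj)] at h1
  push Not at hE
  obtain ⟨b, hb, hb2⟩ := hE
  have hbA : b ∈ A := by_contra fun e => hb2 (hD b hb e)
  have htwo : ∀ x ∈ H, ∀ y ∈ H, x ∉ A → y ∉ A → x * y ∈ A := fun x hx y hy hxA hyA => by
    by_contra e
    have h1 := hinv _ (mul_mem hx hy) e b hbA
    rw [show x * y * b * (x * y)⁻¹ = x * (y * b * y⁻¹) * x⁻¹ by group, hinv y hy hyA b hbA,
      hinv x hx hxA _ (inv_mem hbA), inv_inv, eq_inv_iff_mul_eq_one] at h1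
    exact hb2 h1
  have hrel : A.relIndex H = 2 := index_eq_two_iff.2 ⟨⟨t, ht⟩, fun y => by
    by_cases hy : (y : G) ∈ A
    · exact Or.inr ⟨hy, fun e => htA ((mul_mem_cancel_left hy).1 e)⟩
    · exact Or.inl ⟨htwo y y.2 t ht hy htA, hy⟩⟩
  have hC' : ∀ j ∈ A, orderOf j = 2 → centralizer ({j} : Set G) = H := fun j hj h2 =>
    hC j (hAH.le hj) h2 fun x hx => by
      by_cases hxA : x ∈ A
      · exact (hab x hxA j hj).eq
      · rw [← mul_inv_eq_iff_eq_mul, hinv x hx hxA j hj,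
          inv_eq_of_mul_eq_one_right (mul_self_of_two h2)]
  have hC'' : ∀ j ∈ A, orderOf j = 2 → ∀ x, x ∈ H ↔ Commute x j := fun j hj h2 x => by
    rw [← hC' j hj h2]
    exact mem_centralizer_singleton_iff
  obtain ⟨j, hj, hj2⟩ : ∃ j ∈ A, orderOf j = 2 := by
    have h1 := (A.subgroupOf H).card_mul_index
    change _ * A.relIndex H = _ at h1
    rw [hrel] at h1
    obtain ⟨c, hc⟩ := exists_prime_orderOf_dvd_card' (G := A.subgroupOf H) 2 (by omega)
    exact ⟨c.1, c.2, by rwa [orderOf_coe, orderOf_coe]⟩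
  have hCj := hC'' j hj hj2
  by_cases hu : ∀ a ∈ A, a * a = 1 → a = 1 ∨ a = j
  · exact DH.goal ⟨hj2, hj, hab, fun x hx => hinv x ((hCj x).2 hx), fun x hx => hD x ((hCj x).2 hx),
      fun x y hx hy => htwo x ((hCj x).2 hx) y ((hCj y).2 hy), hu, t, (hCj t).1 ht, htA⟩ hns
  push Not at hu
  obtain ⟨k, hk, hkk, hk1, hkj⟩ := hu
  have hk2 : orderOf k = 2 := orderOf_eq_prime (by rw [sq, hkk]) hk1
  have hjk : orderOf (j * k) = 2 := orderOf_eq_prime (by
    rw [(hab j hj k hk).mul_pow, sq, sq, hkk, mul_self_of_two hj2, mul_one]) fun e => hkj (by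
      rw [← inv_eq_of_mul_eq_one_right e, inv_eq_of_mul_eq_one_right (mul_self_of_two hj2)])
  have norm : ∀ y : G, ∀ w ∈ A, orderOf w = 2 → y * w * y⁻¹ ∈ A → ∀ a ∈ A, y * a * y⁻¹ ∈ A := by
    intro y w hw hw2 hyw a ha
    have h1 := hC'' _ hyw (((MulAut.conj y).orderOf_eq w).trans hw2)
    have h2 : y⁻¹ * b * y ∈ H := (hC'' w hw hw2 _).2 (by
      simpa [mul_assoc] using ((h1 b).1 hb).map (MulAut.conj y⁻¹))
    have h3 : y⁻¹ * b * y ∈ A := by_contra fun e => hb2 (by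
      have := congrArg (MulAut.conj y) (hD _ h2 e)
      simpa [mul_assoc] using this)
    have h5 : Commute (y * a * y⁻¹) b := by
      simpa [mul_assoc] using (hab a ha _ h3).map (MulAut.conj y)
    by_contra e
    have h6 := hinv _ ((h1 _).2 ((hab a ha w hw).map (MulAut.conj y))) e b hbA
    change y * a * y⁻¹ * b * (y * a * y⁻¹)⁻¹ = _ at h6
    rw [h5.eq, mul_inv_cancel_right, eq_inv_iff_mul_eq_one] at h6
    exact hb2 h6
  have three : ∀ y : G, y * j * y⁻¹ ∈ H → y * k * y⁻¹ ∈ H →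
      ∃ w ∈ A, orderOf w = 2 ∧ y * w * y⁻¹ ∈ A := fun y h1 h2 => by
    by_cases h3 : y * j * y⁻¹ ∈ A
    · exact ⟨j, hj, hj2, h3⟩
    by_cases h5 : y * k * y⁻¹ ∈ A
    · exact ⟨k, hk, hk2, h5⟩
    exact ⟨j * k, mul_mem hj hk, hjk, by simpa only [conj_mul] using htwo _ h1 _ h2 h3 h5⟩
  have hodd : Odd H.index := by
    obtain ⟨S, hS⟩ := MSS.exists_sylIn 2 H
    have h1 : ∀ w ∈ A, orderOf w = 2 → w ∈ S := fun w hw hw2 =>
      hS.le_of_normalized (isPGroup_zpowers_inv hw2) (zpowers_le.2 (hAH.le hw))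
        (fun x hx => centralizer_le_normalizer _ (by
          rintro _ ⟨i, rfl⟩
          exact (((hC'' w hw hw2 x).1 (hS.le hx)).symm.zpow_left i).eq)) (mem_zpowers w)
    refine odd_index_of_sylIn (MSS.SylIn.of_normalizer ⟨le_inf le_top le_normalizer, hS.pgroup,
      fun Q hQ h2 h3 => hS.max Q hQ h2 fun x hx => ?_⟩) hS.le
    obtain ⟨w, hw, hw2, h5⟩ := exists_central_inv hQ (N := Q ⊓ A) inf_le_left (fun y hy a ha => by
      have h6 : ∀ s ∈ S, y * s * y⁻¹ ∈ H := fun s hs =>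
        hS.le ((mem_normalizer_iff.1 (mem_inf.1 (h3 hy)).2 s).1 hs)
      obtain ⟨w, hw, hw2, h7⟩ := three y (h6 j (h1 j hj hj2)) (h6 k (h1 k hk hk2))
      exact mem_inf.2 ⟨mul_mem (mul_mem hy (mem_inf.1 ha).1) (inv_mem hy),
        norm y w hw hw2 h7 a (mem_inf.1 ha).2⟩)
      fun e => ne_one_of_two hj2 (mem_bot.1 (e ▸ mem_inf.2 ⟨h2 (h1 j hj hj2), hj⟩))
    exact (hC'' w (mem_inf.1 hw).2 hw2 x).2 (h5 x hx)
  refine goal_of_two hns (K := pResidual 2 G) isPGroup_quotient_pResidual hodd hrel.le hab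
    (fun x hx => by_contra fun hxA => ?_) hC'
  obtain ⟨hxK, hxH⟩ := mem_inf.1 hx
  have hx2 : orderOf x = 2 := orderOf_eq_prime (by rw [sq, hD x hxH hxA]) fun e => hxA (e ▸ one_mem A)
  obtain ⟨M, hM, hxM⟩ := Iso.thompson_transfer_inv hodd hrel hxH hx2 fun g hg => by
    have h1 := hC'' _ hg (((MulAut.conj g).orderOf_eq x).trans hx2)
    obtain ⟨w, hw, hw2, h2⟩ := three g
      ((h1 _).2 (((hCj x).1 hxH).symm.map (MulAut.conj g)))
      ((h1 _).2 (((hC'' k hk hk2 x).1 hxH).symm.map (MulAut.conj g)))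
    have h3 := norm g⁻¹ _ h2 (((MulAut.conj g).orderOf_eq w).trans hw2) (by simpa [mul_assoc] using hw)
      _ hg
    exact hxA (by simpa [mul_assoc] using h3)
  exact hxM (Iso.pResidual_two_le_of_index_two hM hxK)

end CL.DG
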